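import Groth.Agent.Lib.QCoh8.Sub
import Groth.Agent.Lib.ModM1.FT
import Groth.Agent.Lib.ModM1.FibreProd
import Groth.Agent.Lib.ModM1.Push
import Groth.Agent.Lib.ModM1.LocFree
import Groth.Agent.Lib.ModLimH13.Quot

/-!
# Extension of finitely presented quasi-coherent modules from quasi-compact opens
-/

universe u

open CategoryTheory CategoryTheory.Limits AlgebraicGeometry Opposite TopologicalSpace

set_option backward.isDefEq.respectTransparency false
set_option backward.isDefEq.respectTransparency.types false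
set_option linter.style.haveILetI false

noncomputable section

namespace Groth.Agent.FPExt12

open Groth.Agent.M1

variable {X Y : Scheme.{u}} {A B C : X.Modules}

/-- A morphism of modules is an isomorphism below an open. -/
def IsoOn (φ : A ⟶ B) (W : X.Opens) : Prop := ∀ O ≤ W, Function.Bijective (φ.app O)

theorem IsoOn.mono {φ : A ⟶ B} {W W' : X.Opens} (h : IsoOn φ W) (hle : W' ≤ W) : IsoOn φ W' :=
  fun O hO => h O (hO.trans hle)

theorem IsoOn.comp {φ : A ⟶ B} {ψ : B ⟶ C} {W : X.Opens} (h : IsoOn φ W) (h' : IsoOn ψ W) :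
    IsoOn (φ ≫ ψ) W := fun O hO => by
  have e : ((φ ≫ ψ).app O : _ → _) = ψ.app O ∘ φ.app O := funext fun s => comp_app_apply _ _ O s
  rw [e]
  exact (h' O hO).comp (h O hO)

theorem isoOn_of_isIso_restrict {φ : A ⟶ B} (j : Y ⟶ X) [IsOpenImmersion j]
    (h : IsIso ((Scheme.Modules.restrictFunctor j).map φ)) : IsoOn φ j.opensRange := fun O hO => by
  have e : j ''ᵁ (j ⁻¹ᵁ O) = O := by
    rw [Scheme.Hom.image_preimage_eq_opensRange_inf, inf_eq_right.2 hO]
  rw [← e]
  haveI := Scheme.Modules.Hom.isIso_iff_isIso_app.1 h (j ⁻¹ᵁ O)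
  exact ConcreteCategory.bijective_of_isIso (((Scheme.Modules.restrictFunctor j).map φ).app (j ⁻¹ᵁ O))

theorem IsoOn.isIso_restrict {φ : A ⟶ B} {W : X.Opens} (h : IsoOn φ W) (j : Y ⟶ X)
    [IsOpenImmersion j] (hj : j.opensRange ≤ W) :
    IsIso ((Scheme.Modules.restrictFunctor j).map φ) := by
  refine Scheme.Modules.Hom.isIso_iff_isIso_app.2 fun T => ?_
  refine (ConcreteCategory.isIso_iff_bijective _).2 ?_
  exact h (j ''ᵁ T) ((j.image_le_opensRange T).trans hj)

/-- A finite type module on a quasi-compact open is the restriction of a finite type submodule. -/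
theorem exists_ft_isoOn [CompactSpace X] [QuasiSeparatedSpace X] {N : X.Modules}
    (hN : Coh.IsQCoh N) {W : X.Opens} (hW : IsCompact (W : Set X))
    (hft : CohB1.IsFT (N.restrict W.ι)) :
    ∃ q : M1.Sub N, Coh.IsQCoh q.P ∧ CohB1.IsFT q.P ∧
      IsIso ((Scheme.Modules.restrictFunctor W.ι).map q.i) := by
  obtain ⟨p, hp, hag⟩ := M1.Sub.exists_initial (F := N) (𝟙 (N.restrict W.ι))
    (M1.isQCoh_restrict hN _) hft
  obtain ⟨q, hq, hq', hpq⟩ := M1.Sub.exists_extend_qcqs hN p W hW hp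
  obtain ⟨e, he⟩ := hag q hpq
  refine ⟨q, hq, hq', ?_⟩
  rw [← he, Category.comp_id]
  infer_instance

/-- Extension on an affine scheme. -/
theorem exists_fp_spec {R : CommRingCat.{u}} {N : (Spec R).Modules} (hN : Coh.IsQCoh N)
    {W : (Spec R).Opens} (hW : IsCompact (W : Set (Spec R)))
    (hfp : CohB1.IsFP (N.restrict W.ι)) :
    ∃ (G : (Spec R).Modules) (θ : G ⟶ N), CohB1.IsFP G ∧ IsoOn θ W := by
  obtain ⟨q, hq, hq', hqi⟩ := exists_ft_isoOn hN hW (isFP_isFT hfp)
  obtain ⟨J, hJ, π, hπ⟩ := exists_epi_fr_spec q.P hq hq'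
  haveI := hπ
  have hK : Coh.IsQCoh (kernel π) := isQCoh_kernel (isQCoh_fr _ J) hq π
  let Rf := Scheme.Modules.restrictFunctor W.ι
  have hKft : CohB1.IsFT ((kernel π).restrict W.ι) := by
    refine isFT_of_isIso (PreservesKernel.iso Rf π).symm ?_
    exact M1.isFT_kernel (isFT_restrict (isFT_fr _ J) _)
      (isFP_of_isIso (@asIso _ _ _ _ _ hqi).symm hfp) (Rf.map π)
  obtain ⟨k, hk, hk', hki⟩ := exists_ft_isoOn hK hW hKft
  let c : k.P ⟶ fr J := k.i ≫ kernel.ι π
  let d : cokernel c ⟶ q.P := cokernel.desc c π (by rw [Category.assoc, kernel.condition, comp_zero])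
  refine ⟨cokernel c, d ≫ q.i, ?_, IsoOn.comp ?_ ?_⟩
  · exact ModLimH13.isFP_cokernel hk hk' (isFP_fr _ J) c
  · have hzero : kernel.ι (Rf.map π) ≫ Rf.map (cokernel.π c) = 0 := by
      rw [show kernel.ι (Rf.map π) = (PreservesKernel.iso Rf π).inv ≫ Rf.map (kernel.ι π) from
        (Iso.eq_inv_comp _).2 (by simp), Category.assoc]
      haveI := hki
      rw [← cancel_epi (PreservesKernel.iso Rf π).hom, Iso.hom_inv_id_assoc, comp_zero,
        ← cancel_epi (Rf.map k.i), ← Rf.map_comp, ← Rf.map_comp, ← Category.assoc,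
        cokernel.condition, Functor.map_zero, comp_zero]
    haveI : IsIso (Rf.map d) := by
      refine ⟨Abelian.epiDesc (Rf.map π) _ hzero, ?_, ?_⟩
      · rw [← cancel_epi (Rf.map (cokernel.π c)), ← Rf.map_comp_assoc, cokernel.π_desc,
          Abelian.comp_epiDesc, Category.comp_id]
      · rw [← cancel_epi (Rf.map π), ← Category.assoc, Abelian.comp_epiDesc, ← Rf.map_comp,
          cokernel.π_desc, Category.comp_id]
    exact (isoOn_of_isIso_restrict W.ι this).mono (Scheme.Opens.opensRange_ι W).ge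
  · exact (isoOn_of_isIso_restrict W.ι hqi).mono (Scheme.Opens.opensRange_ι W).ge

/-- Enlarging the open of finite presentation by an affine open. -/
theorem exists_step [CompactSpace X] [QuasiSeparatedSpace X] {N : X.Modules} (hN : Coh.IsQCoh N)
    {W V : X.Opens} (hW : IsCompact (W : Set X)) (hV : IsAffineOpen V)
    (hfp : CohB1.IsFP (N.restrict W.ι)) :
    ∃ (B : X.Modules) (θ : B ⟶ N), Coh.IsQCoh B ∧ IsoOn θ W ∧
      CohB1.IsFP (B.restrict (W ⊔ V).ι) := by
  let k := hV.fromSpec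
  haveI : QuasiCompact k := inferInstance
  haveI : QuasiSeparated k := inferInstance
  have hr : Set.range ((k ⁻¹ᵁ W).ι ≫ k) ⊆ Set.range W.ι := by
    rintro _ ⟨z, rfl⟩
    rw [Scheme.Opens.range_ι]
    exact z.2
  obtain ⟨G, θ, hG, hθ⟩ := exists_fp_spec (N := N.restrict k) (M1.isQCoh_restrict hN k)
    (W := k ⁻¹ᵁ W) (QuasiCompact.isCompact_preimage (f := k) _ W.2 hW)
    (isFP_of_isIso (restrictLiftIso N W.ι ((k ⁻¹ᵁ W).ι ≫ k) hr ≪≫
        (restrictRestrictIso N k (k ⁻¹ᵁ W).ι _ rfl).symm)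
      (isFP_restrict hfp _))
  let adj := Scheme.Modules.restrictAdjunction k
  let f : N ⟶ (Scheme.Modules.pushforward k).obj (N.restrict k) := adj.unit.app N
  let g := (Scheme.Modules.pushforward k).map θ
  have hg : IsoOn g W := fun O hO => hθ (k ⁻¹ᵁ O) (fun z hz => hO hz)
  have hfst : IsoOn (pullback.fst f g) W :=
    (isoOn_of_isIso_restrict W.ι (isIso_restrict_fst f g W.ι
      (hg.isIso_restrict W.ι (Scheme.Opens.opensRange_ι W).le))).mono
      (Scheme.Opens.opensRange_ι W).ge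
  have hB : Coh.IsQCoh (pullback f g) := isQCoh_fibreProd hN
    (isQCoh_push k (isFP_isQCoh hG)) (isQCoh_push k (M1.isQCoh_restrict hN k)) f g
  refine ⟨pullback f g, pullback.fst f g, hB, hfst, ?_⟩
  have hBW : CohB1.IsFP ((pullback f g).restrict W.ι) :=
    isFP_of_isIso (@asIso _ _ _ _ _ (hfst.isIso_restrict W.ι (Scheme.Opens.opensRange_ι W).le)).symm
      hfp
  have hBk : CohB1.IsFP ((pullback f g).restrict k) :=
    isFP_of_isIso ((@asIso _ _ _ _ _ (isIso_restrict_snd f g k (isIso_restrict_unit k N))) ≪≫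
      asIso (adj.counit.app G)).symm hG
  have hrV : Set.range V.ι ⊆ Set.range k := by
    rw [Scheme.Opens.range_ι, IsAffineOpen.range_fromSpec]
  have hBV : CohB1.IsFP ((pullback f g).restrict V.ι) :=
    isFP_of_isIso (restrictLiftIso _ k V.ι hrV) (isFP_restrict hBk _)
  have hr' : ∀ i : Fin 2, Set.range (![W, V] i).ι ⊆ Set.range (W ⊔ V).ι := fun i => by
    simp only [Scheme.Opens.range_ι]
    fin_cases i
    exacts [Set.subset_union_left, Set.subset_union_right]
  refine isFP_of_openImmersion_cover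
    (fun i : Fin 2 => IsOpenImmersion.lift (W ⊔ V).ι (![W, V] i).ι (hr' i)) ?_ ?_
  · intro y
    have hy : (W ⊔ V).ι y ∈ W ∨ (W ⊔ V).ι y ∈ V := y.2
    rcases hy with hy | hy
    · refine ⟨0, ⟨(W ⊔ V).ι y, hy⟩, (W ⊔ V).ι.isOpenEmbedding.injective ?_⟩
      rw [← Scheme.Hom.comp_apply, IsOpenImmersion.lift_fac]; rfl
    · refine ⟨1, ⟨(W ⊔ V).ι y, hy⟩, (W ⊔ V).ι.isOpenEmbedding.injective ?_⟩
      rw [← Scheme.Hom.comp_apply, IsOpenImmersion.lift_fac]; rfl
  · intro i
    refine isFP_of_isIso (restrictLiftIso _ _ _ (hr' i)).symm ?_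
    fin_cases i
    exacts [hBW, hBV]

/-- Extension of finitely presented modules from a quasi-compact open. -/
theorem exists_fp_isoOn [CompactSpace X] [QuasiSeparatedSpace X] {N : X.Modules}
    (hN : Coh.IsQCoh N) {U : X.Opens} (hU : IsCompact (U : Set X))
    (hfp : CohB1.IsFP (N.restrict U.ι)) :
    ∃ (G : X.Modules) (θ : G ⟶ N), CohB1.IsFP G ∧ IsoOn θ U := by
  obtain ⟨s, hs, hcov⟩ := exists_finite_affine_iSup (X := X) (U := ⊤) isCompact_univ
  have key : ∀ l : List X.affineOpens, ∃ (W : X.Opens) (B : X.Modules) (θ : B ⟶ N),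
      IsCompact (W : Set X) ∧ U ≤ W ∧ (∀ V ∈ l, V.1 ≤ W) ∧ Coh.IsQCoh B ∧ IsoOn θ U ∧
        CohB1.IsFP (B.restrict W.ι) := by
    intro l
    induction l with
    | nil =>
      refine ⟨U, N, 𝟙 N, hU, le_rfl, by simp, hN, fun O _ => ?_, hfp⟩
      exact ConcreteCategory.bijective_of_isIso ((𝟙 N : N ⟶ N).app O)
    | cons V l ih =>
      obtain ⟨W, B, θ, hWc, hUW, hl, hB, hθ, hBW⟩ := ih
      obtain ⟨B', θ', hB', hθ', hBW'⟩ := exists_step hB hWc V.2 hBW
      refine ⟨W ⊔ V.1, B', θ' ≫ θ, by rw [Opens.coe_sup]; exact hWc.union V.2.isCompact,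
        hUW.trans le_sup_left, ?_, hB', (hθ'.mono hUW).comp hθ, hBW'⟩
      intro V' hV'
      rcases List.mem_cons.mp hV' with rfl | h
      exacts [le_sup_right, (hl V' h).trans le_sup_left]
  obtain ⟨W, B, θ, -, -, hl, -, hθ, hBW⟩ := key hs.toFinset.toList
  have htop (x : X) : x ∈ W := by
    have hx : x ∈ (⊤ : X.Opens) := trivial
    rw [hcov, Opens.mem_iSup] at hx
    obtain ⟨V, hV⟩ := hx
    exact hl V.1 (by simp) hV
  exact ⟨B, θ, isFP_of_openImmersion_cover (fun _ : PUnit.{1} => W.ι)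
    (fun x => ⟨⟨⟩, by rw [Scheme.Opens.range_ι]; exact htop x⟩) fun _ => hBW, hθ⟩

/-- Extension of a finitely presented module with a map to a quasi-coherent module. -/
theorem exists_fp_extension [CompactSpace X] [QuasiSeparatedSpace X] {F : X.Modules}
    (hF : Coh.IsQCoh F) {U : X.Opens} (hU : IsCompact (U : Set X))
    {G : (U : Scheme.{u}).Modules} (hG : CohB1.IsFP G) (φ : G ⟶ F.restrict U.ι) :
    ∃ (G' : X.Modules) (φ' : G' ⟶ F) (e : G'.restrict U.ι ≅ G), CohB1.IsFP G' ∧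
      e.hom ≫ φ = (Scheme.Modules.restrictFunctor U.ι).map φ' := by
  haveI : QuasiCompact U.ι := quasiCompact_ι U fun V hV =>
    QuasiSeparatedSpace.inter_isCompact _ _ U.2 hU V.2 hV.isCompact
  let adj := Scheme.Modules.restrictAdjunction U.ι
  let f : F ⟶ (Scheme.Modules.pushforward U.ι).obj (F.restrict U.ι) := adj.unit.app F
  let g := (Scheme.Modules.pushforward U.ι).map φ
  let Rf := Scheme.Modules.restrictFunctor U.ι
  have hN : Coh.IsQCoh (pullback f g) := isQCoh_fibreProd hF (isQCoh_push _ (isFP_isQCoh hG))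
    (isQCoh_push _ (M1.isQCoh_restrict hF _)) f g
  haveI := isIso_restrict_snd f g U.ι (isIso_restrict_unit U.ι F)
  let e₀ : (pullback f g).restrict U.ι ≅ G :=
    asIso (Rf.map (pullback.snd f g)) ≪≫ asIso (adj.counit.app G)
  have he₀ : e₀.hom ≫ φ = Rf.map (pullback.fst f g) := by
    have h1 : Rf.map (pullback.fst f g) ≫ Rf.map f ≫ adj.counit.app (F.restrict U.ι) =
        Rf.map (pullback.fst f g) := by
      rw [show Rf.map f ≫ adj.counit.app (F.restrict U.ι) = 𝟙 _ from adj.left_triangle_components F]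
      exact Category.comp_id _
    rw [← h1, ← Category.assoc (Rf.map (pullback.fst f g)), ← Rf.map_comp, pullback.condition,
      Rf.map_comp, Category.assoc]
    simp only [e₀, Iso.trans_hom, asIso_hom, Category.assoc]
    congr 1
    exact (adj.counit.naturality φ).symm
  obtain ⟨G', θ, hG', hθ⟩ := exists_fp_isoOn hN hU (isFP_of_isIso e₀.symm hG)
  haveI := hθ.isIso_restrict U.ι (Scheme.Opens.opensRange_ι U).le
  refine ⟨G', θ ≫ pullback.fst f g, asIso (Rf.map θ) ≪≫ e₀, hG', ?_⟩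
  simp only [Iso.trans_hom, asIso_hom, Category.assoc, he₀]
  exact (Rf.map_comp _ _).symm

end Groth.Agent.FPExt12
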