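import Groth.Agent.Lib.FPExt12.Present
import Groth.Agent.Lib.CohMop.QCohVan

/-!
# Finite type modules as directed colimits of finitely presented modules with epi transition maps
-/

universe u

open CategoryTheory CategoryTheory.Limits AlgebraicGeometry Opposite

set_option backward.isDefEq.respectTransparency false
set_option backward.isDefEq.respectTransparency.types false
set_option linter.style.haveILetI false

noncomputable section

namespace Groth.Agent.FPExt12

open Groth.Agent Groth.Agent.M1 Groth.Agent.QCoh8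

variable {X : Scheme.{u}} [CompactSpace X] [QuasiSeparatedSpace X]

/-- A stage of a filtered colimit surjects onto a finite type colimit. -/
theorem exists_epi_stage {I : Type u} [SmallCategory I] [IsFiltered I] {D : I ⥤ X.Modules}
    {c : Cocone D} (hc : IsColimit c) (hF : Coh.IsQCoh c.pt) (hFT : CohB1.IsFT c.pt) :
    ∃ k, Epi (c.ι.app k) := by
  let D' : I ⥤ X.Modules :=
    { obj := fun j => cokernel (c.ι.app j)
      map := fun {i j} g => cokernel.desc (c.ι.app i) (cokernel.π (c.ι.app j))
        (by rw [← c.w g, Category.assoc, cokernel.condition, comp_zero])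
      map_id := fun i => coequalizer.hom_ext (by simp)
      map_comp := fun f g => coequalizer.hom_ext (by simp) }
  let π : ∀ j, c.pt ⟶ colimit D' := fun j => cokernel.π (c.ι.app j) ≫ colimit.ι D' j
  have hπle : ∀ {a b}, (a ⟶ b) → π a = π b := fun {a b} g => by
    simp only [π]
    rw [← colimit.w D' g]
    simp [D']
  have hπ : ∀ a b, π a = π b := fun a b => by
    rw [hπle (IsFiltered.leftToMax a b), hπle (IsFiltered.rightToMax a b)]
  obtain ⟨a⟩ := IsFiltered.nonempty (C := I)
  have h0 : π a = 0 := hc.hom_ext fun j => by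
    rw [hπ a j, comp_zero]; simp [π]
  obtain ⟨k, g, hk⟩ := hom_zero_stage (colimit.isColimit D') hF hFT (cokernel.π (c.ι.app a)) h0
  have hk' : cokernel.π (c.ι.app k) = 0 := by simpa [D'] using hk
  exact ⟨k, Abelian.epi_of_cokernel_π_eq_zero _ hk'⟩

/-- A finite type quasi-coherent module is a directed colimit of finitely presented modules with
epimorphic transition maps. -/
theorem exists_directed_colimit_fp (F : X.Modules) [Coh.IsQCoh F] (hFT : CohB1.IsFT F) :
    ∃ (J : Type u) (_ : PartialOrder J) (_ : IsDirected J (· ≤ ·)) (_ : Nonempty J) (D : J ⥤ X.Modules)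
      (ι : D ⟶ (Functor.const J).obj F), Nonempty (IsColimit (Cocone.mk F ι)) ∧
      (∀ j, CohB1.IsFP (D.obj j)) ∧ ∀ (j j' : J) (h : j ⟶ j'), Epi (D.map h) := by
  obtain ⟨I, _, _, D₀, c, hc, hfp, rfl⟩ := exists_colimit_fp F ‹_›
  obtain ⟨k, hk⟩ := exists_epi_stage hc ‹_› hFT
  let ψ := c.ι.app k
  haveI : Epi ψ := hk
  let G : QCohCat.QCoh X :=
    ⟨kernel ψ, isQCoh_kernel (isFP_isQCoh (hfp k)) ‹Coh.IsQCoh c.pt› ψ⟩
  letI hpo : PartialOrder (StageFT G) :=
    { (inferInstance : Preorder (StageFT G)) with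
      le_antisymm := fun a b h h' => by
        have e : a.sub = b.sub := Subtype.ext (le_antisymm h h')
        cases a; cases b
        exact congrArg StageFT.mk ((equivShrink _).symm.injective e) }
  haveI := CohMop.nonempty_stageFT G
  have hdir : IsDirected (StageFT G) (· ≤ ·) := CohMop.directed_stageFT G
  obtain ⟨hcol⟩ := CohMop.nonempty_isColimit_ftCocone G
  let i₀ : ∀ a : StageFT G, (CohMop.ftDiag G).obj a ⟶ D₀.obj k := fun a =>
    (CohMop.ftCocone G).ι.app a ≫ kernel.ι ψ
  have hi₀ : ∀ {a b : StageFT G} (h : a ⟶ b), (CohMop.ftDiag G).map h ≫ i₀ b = i₀ a := fun h => by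
    simp only [i₀]
    rw [← Category.assoc, (CohMop.ftCocone G).w h]
  let D : StageFT G ⥤ X.Modules :=
    { obj := fun a => cokernel (i₀ a)
      map := fun {a b} h => cokernel.desc (i₀ a) (cokernel.π (i₀ b))
        (by rw [← hi₀ h, Category.assoc, cokernel.condition, comp_zero])
      map_id := fun a => coequalizer.hom_ext (by simp)
      map_comp := fun f g => coequalizer.hom_ext (by simp) }
  let ι : D ⟶ (Functor.const _).obj c.pt :=
    { app := fun a => cokernel.desc (i₀ a) ψ
        (by simp only [i₀, Category.assoc]; rw [kernel.condition, comp_zero])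
      naturality := fun a b h => coequalizer.hom_ext (by simp [D]) }
  have hind : ∀ (s : Cocone D) (a b : StageFT G),
      cokernel.π (i₀ a) ≫ s.ι.app a = cokernel.π (i₀ b) ≫ s.ι.app b := fun s a b => by
    haveI := hdir
    obtain ⟨d, h1, h2⟩ := exists_ge_ge a b
    rw [← s.w (homOfLE h1), ← s.w (homOfLE h2)]
    simp [D]
  obtain ⟨a₀⟩ := CohMop.nonempty_stageFT G
  have hker : ∀ s : Cocone D, kernel.ι ψ ≫ cokernel.π (i₀ a₀) ≫ s.ι.app a₀ = 0 := fun s =>
    hcol.hom_ext fun a => by
      rw [hind s a₀ a, comp_zero]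
      show (CohMop.ftCocone G).ι.app a ≫ _ = 0
      rw [← Category.assoc, ← Category.assoc]
      show (i₀ a ≫ cokernel.π (i₀ a)) ≫ _ = 0
      rw [cokernel.condition, zero_comp]
  refine ⟨StageFT G, hpo, hdir, inferInstance, D, ι, ⟨
    { desc := fun s => Abelian.epiDesc ψ (cokernel.π (i₀ a₀) ≫ s.ι.app a₀) (hker s)
      fac := fun s a => by
        refine coequalizer.hom_ext ?_
        show cokernel.π (i₀ a) ≫ cokernel.desc (i₀ a) ψ _ ≫ _ = cokernel.π (i₀ a) ≫ s.ι.app a
        rw [cokernel.π_desc_assoc, Abelian.comp_epiDesc, hind s a₀ a]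
      uniq := fun s m hm => by
        rw [← cancel_epi ψ, Abelian.comp_epiDesc, ← hm a₀]
        show _ = cokernel.π (i₀ a₀) ≫ cokernel.desc (i₀ a₀) ψ _ ≫ m
        rw [cokernel.π_desc_assoc] }⟩, fun a => ?_, fun a b h => ?_⟩
  · exact ModLimH13.isFP_cokernel (isQCoh_toSub _) a.sub.2 (hfp k) (i₀ a)
  · haveI : Epi (cokernel.π (i₀ a) ≫ D.map h) := by
      rw [show cokernel.π (i₀ a) ≫ D.map h = cokernel.π (i₀ b) from cokernel.π_desc _ _ _]
      infer_instance
    exact epi_of_epi (cokernel.π (i₀ a)) _

end Groth.Agent.FPExt12
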