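import Groth.Agent.Lib.FPExt12.Basic
import Groth.Agent.Lib.QCoh8.Main
import Groth.Agent.Lib.QCoh8.FP
import Mathlib.CategoryTheory.Presentable.Dense

/-!
# Quasi-coherent modules are filtered colimits of finitely presented ones
-/

universe u

open CategoryTheory CategoryTheory.Limits AlgebraicGeometry Opposite

set_option backward.isDefEq.respectTransparency false
set_option linter.style.haveILetI false

noncomputable section

namespace Groth.Agent.FPExt12

attribute [local instance] Cardinal.fact_isRegular_aleph0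

open Groth.Agent Groth.Agent.M1 Groth.Agent.QCoh8

variable {X : Scheme.{u}} [CompactSpace X] [QuasiSeparatedSpace X]

/-- A section over a quasi-compact open comes from a finitely presented module. -/
theorem exists_fp_hit {M : X.Modules} (hM : Coh.IsQCoh M) {V : X.Opens}
    (hV : IsCompact (V : Set X)) (s : Γ(M, V)) :
    ∃ (G : X.Modules) (f : G ⟶ M) (b : Γ(G, V)), CohB1.IsFP G ∧ f.app V b = s := by
  let t : Γ(M.restrict V.ι, ⊤) := (M.restrictAppIso V.ι ⊤).inv (mres M V.ι_image_top.le s)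
  obtain ⟨G, f, e, hG, he⟩ := exists_fp_extension hM hV
    (isFP_fr (V : Scheme.{u}) PUnit.{u + 1}) (M1.freeHom fun _ => t)
  let o := (ιF (X := (V : Scheme.{u})) PUnit.unit).app ⊤ (M1.one ⊤)
  let c : Γ(G, V.ι ''ᵁ ⊤) := (G.restrictAppIso V.ι ⊤).hom (e.inv.app ⊤ o)
  refine ⟨G, f, mres G V.ι_image_top.ge c, hG, ?_⟩
  have h1 : ((Scheme.Modules.restrictFunctor V.ι).map f).app ⊤ (e.inv.app ⊤ o) = t := by
    rw [← he, ← comp_app_apply, ← Category.assoc, e.inv_hom_id, Category.id_comp, ← comp_app_apply,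
      ιF_freeHom, secHom_app_one]
  have h2 : f.app (V.ι ''ᵁ ⊤) c = mres M V.ι_image_top.le s := h1
  rw [app_mres, h2, mres_mres, mres_id]

/-- The indices of the generators. -/
abbrev GenIdx (X : Scheme.{u}) : Type u :=
  Σ (x : Shrink.{u} (SepIdx X)) (V : X.affineOpens), Γ((sep X x).obj, V.1)

/-- The generators. -/
def genFP (a : GenIdx X) : QCohCat.QCoh X :=
  ⟨(exists_fp_hit (sep X a.1).property a.2.1.2.isCompact a.2.2).choose,
    isFP_isQCoh (exists_fp_hit (sep X a.1).property a.2.1.2.isCompact a.2.2).choose_spec.choose_spec.choose_spec.1⟩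

theorem isFP_genFP (a : GenIdx X) : CohB1.IsFP (genFP a).obj :=
  (exists_fp_hit (sep X a.1).property a.2.1.2.isCompact a.2.2).choose_spec.choose_spec.choose_spec.1

/-- The family of generators hits all sections over affine opens. -/
theorem exists_genFP_hit (M : QCohCat.QCoh X) (V : X.affineOpens) (s : Γ(M.obj, V.1)) :
    ∃ (a : GenIdx X) (f : (genFP a).obj ⟶ M.obj) (b : Γ((genFP a).obj, V.1)), f.app V.1 b = s := by
  haveI : Coh.IsQCoh M.obj := M.property
  obtain ⟨K, m, hm⟩ := exists_mono_prod (gen M.obj s).P (fun j => QCoh8.Idx V j) (exists_epi_gen M.obj s)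
  let S : Subobject (target X V K) := Subobject.mk m
  have hS : QCohCat.isQCoh X (S : X.Modules) :=
    M1.isQCoh_of_isIso (Subobject.underlyingIso m).symm (isQCoh_gen M.obj s)
  let z : SepIdx X := ⟨V, K, S, hS⟩
  let e : (sep X (equivShrink (SepIdx X) z)).obj ≅ (gen M.obj s).P :=
    eqToIso (congrArg (fun Q : QCohCat.QCoh X => Q.obj) (sep_equivShrink X z)) ≪≫
      Subobject.underlyingIso m
  obtain ⟨c, hc⟩ := mem_gen_val M.obj s V QCoh8.Idx.seed
  let a : GenIdx X := ⟨equivShrink (SepIdx X) z, V, e.inv.app V.1 c⟩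
  obtain ⟨b, -, hb⟩ := (exists_fp_hit (sep X a.1).property a.2.1.2.isCompact a.2.2).choose_spec.choose_spec
  refine ⟨a, (exists_fp_hit (sep X a.1).property a.2.1.2.isCompact a.2.2).choose_spec.choose ≫
    e.hom ≫ (gen M.obj s).i, b, ?_⟩
  refine (comp_app_apply _ _ _ b).trans ?_
  refine (congrArg (fun y => (e.hom ≫ (gen M.obj s).i).app V.1 y) hb).trans ?_
  change (e.hom ≫ (gen M.obj s).i).app V.1 (e.inv.app V.1 c) = s
  rw [← comp_app_apply, Iso.inv_hom_id_assoc]
  exact hc

/-- The property of being one of the generators. -/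
def genProp (X : Scheme.{u}) [CompactSpace X] [QuasiSeparatedSpace X] :
    ObjectProperty (QCohCat.QCoh X) :=
  ObjectProperty.ofObj (genFP (X := X))

instance small_genProp : ObjectProperty.Small.{u} (genProp X) := by
  unfold genProp; infer_instance

theorem isStrongGenerator_genProp : (genProp X).IsStrongGenerator := by
  rw [ObjectProperty.isStrongGenerator_iff]
  refine ⟨fun M N φ ψ h => ObjectProperty.hom_ext _ ?_, fun A B i hi h => ?_⟩
  · ext T x
    refine modules_eq_of_locally_eq N.obj T (fun j : {j : X.affineOpens // j.1 ≤ T} => j.1.1)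
      (fun j => j.2) (fun y hy => ?_) _ _ fun j => ?_
    · obtain ⟨U, hU, hyU, hUT⟩ := exists_isAffineOpen_mem_and_subset (x := y) (U := T) hy
      exact TopologicalSpace.Opens.mem_iSup.2 ⟨⟨⟨U, hU⟩, hUT⟩, hyU⟩
    rw [← app_mres, ← app_mres]
    obtain ⟨a, f, b, hb⟩ := exists_genFP_hit M j.1 (mres M.obj j.2 x)
    have h' := congrArg (fun g => g.hom.app j.1.1 b)
      (h (genFP a) ((ObjectProperty.ofObj_iff _ _).2 ⟨a, rfl⟩) (ObjectProperty.homMk f))
    rw [← hb]
    exact (comp_app_apply _ _ _ b).symm.trans (h'.trans (comp_app_apply _ _ _ b))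
  · haveI : Mono i.hom := inferInstanceAs (Mono ((QCohCat.isQCoh X).ι.map i))
    haveI : Epi i.hom := (M1.epi_iff_stalk i.hom).2 fun x b => by
      obtain ⟨W, hxW, s₀, rfl⟩ := B.obj.presheaf.exists_germ_eq b
      obtain ⟨U, hU, hxU, hUW⟩ := exists_isAffineOpen_mem_and_subset hxW
      obtain ⟨a, f, t, ht⟩ := exists_genFP_hit B ⟨U, hU⟩ (mres B.obj hUW s₀)
      obtain ⟨g, hg⟩ := h (genFP a) ((ObjectProperty.ofObj_iff _ _).2 ⟨a, rfl⟩)
        (ObjectProperty.homMk f)
      refine ⟨A.obj.presheaf.germ U x hxU (g.hom.app U t), ?_⟩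
      have h1 : i.hom.app U (g.hom.app U t) = mres B.obj hUW s₀ :=
        ((comp_app_apply _ _ U t).symm.trans (congrArg (fun q => q.hom.app U t) hg)).trans ht
      refine (M1.germ_naturality i.hom U x hxU _).trans ?_
      rw [h1]
      exact M1.germ_mres B.obj hUW hxU s₀
    haveI : IsIso ((QCohCat.isQCoh X).ι.map i) := isIso_of_mono_of_epi i.hom
    exact isIso_of_reflects_iso i (QCohCat.isQCoh X).ι

instance isCardinalLocallyPresentable_qcoh :
    IsCardinalLocallyPresentable (QCohCat.QCoh X) (Cardinal.aleph0.{u}) := by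
  rw [IsCardinalLocallyPresentable.iff_exists_isStrongGenerator]
  refine ⟨genProp X, inferInstance, isStrongGenerator_genProp, fun M hM => ?_⟩
  obtain ⟨a, rfl⟩ := (ObjectProperty.ofObj_iff _ _).1 hM
  exact isFinitelyPresentable_of_isFP _ (isFP_genFP a)

/-- A quasi-coherent module is a filtered colimit of finitely presented modules. -/
theorem exists_colimit_fp (F : X.Modules) (hF : Coh.IsQCoh F) :
    ∃ (I : Type u) (_ : SmallCategory I) (_ : IsFiltered I) (D : I ⥤ X.Modules) (c : Cocone D)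
      (_ : IsColimit c), (∀ i, CohB1.IsFP (D.obj i)) ∧ c.pt = F := by
  obtain ⟨J, _, _, ⟨p⟩⟩ := (isCardinalFilteredGenerator_isCardinalPresentable
    (QCohCat.QCoh X) Cardinal.aleph0.{u}).exists_colimitsOfShape (⟨F, hF⟩ : QCohCat.QCoh X)
  refine ⟨J, inferInstance, isFiltered_of_isCardinalFiltered J Cardinal.aleph0.{u},
    p.diag ⋙ (QCohCat.isQCoh X).ι, _,
    isColimitOfPreserves (QCohCat.isQCoh X).ι p.isColimit, fun i => ?_, rfl⟩
  exact (QCoh8.isFinitelyPresentable_iff (p.diag.obj i)).1 (p.prop_diag_obj i)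

end Groth.Agent.FPExt12
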