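import Groth.Agent.Lib.FPExt12.FTColim

/-!
# Further consequences of the extension of finitely presented modules
-/

universe u

open CategoryTheory CategoryTheory.Limits AlgebraicGeometry Opposite

set_option backward.isDefEq.respectTransparency false
set_option backward.isDefEq.respectTransparency.types false
set_option linter.style.haveILetI false

noncomputable section

namespace Groth.Agent.FPExt12

open Groth.Agent Groth.Agent.M1 Groth.Agent.QCoh8

variable {X : Scheme.{u}} [CompactSpace X]

/-- Epimorphy onto a finite type module is attained at a stage of a filtered colimit. -/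
theorem exists_epi_stage_comp {J : Type u} [SmallCategory J] [IsFiltered J] {D : J ⥤ X.Modules}
    {c : Cocone D} (hc : IsColimit c) {F : X.Modules} (hF : Coh.IsQCoh F) (hFT : CohB1.IsFT F)
    (u : c.pt ⟶ F) [Epi u] : ∃ j₀, ∀ j, Nonempty (j₀ ⟶ j) → Epi (c.ι.app j ≫ u) := by
  let f : ∀ j, D.obj j ⟶ F := fun j => c.ι.app j ≫ u
  have hw : ∀ {i j : J} (g : i ⟶ j), D.map g ≫ f j = f i := fun g => by
    simp only [f]; rw [← Category.assoc, c.w g]
  let D' : J ⥤ X.Modules :=
    { obj := fun j => cokernel (f j)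
      map := fun {i j} g => cokernel.desc (f i) (cokernel.π (f j))
        (by rw [← hw g, Category.assoc, cokernel.condition, comp_zero])
      map_id := fun i => coequalizer.hom_ext (by simp)
      map_comp := fun f g => coequalizer.hom_ext (by simp) }
  let π : ∀ j, F ⟶ colimit D' := fun j => cokernel.π (f j) ≫ colimit.ι D' j
  have hπle : ∀ {a b}, (a ⟶ b) → π a = π b := fun {a b} g => by
    simp only [π]
    rw [← colimit.w D' g]
    simp [D']
  have hπ : ∀ a b, π a = π b := fun a b => by
    rw [hπle (IsFiltered.leftToMax a b), hπle (IsFiltered.rightToMax a b)]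
  obtain ⟨a⟩ := IsFiltered.nonempty (C := J)
  have h0 : π a = 0 := by
    rw [← cancel_epi u, comp_zero]
    refine hc.hom_ext fun j => ?_
    rw [hπ a j, comp_zero]
    simp only [π]
    rw [← Category.assoc, ← Category.assoc]
    show (f j ≫ cokernel.π (f j)) ≫ _ = 0
    rw [cokernel.condition, zero_comp]
  obtain ⟨k, g, hk⟩ := hom_zero_stage (colimit.isColimit D') hF hFT (cokernel.π (f a)) h0
  have hk' : cokernel.π (f k) = 0 := by simpa [D'] using hk
  haveI : Epi (f k) := Abelian.epi_of_cokernel_π_eq_zero _ hk'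
  refine ⟨k, fun j hj => ?_⟩
  obtain ⟨g'⟩ := hj
  haveI : Epi (D.map g' ≫ f j) := by rw [hw g']; infer_instance
  exact epi_of_epi (D.map g') (f j)

/-- Epimorphy onto a finite type module is eventual along a filtered colimit. -/
theorem epi_iff_eventually {J : Type u} [SmallCategory J] [IsFiltered J] {D : J ⥤ X.Modules}
    {c : Cocone D} (hc : IsColimit c) {F : X.Modules} (hF : Coh.IsQCoh F) (hFT : CohB1.IsFT F)
    (u : c.pt ⟶ F) :
    Epi u ↔ ∃ j₀, ∀ j, Nonempty (j₀ ⟶ j) → Epi (c.ι.app j ≫ u) := by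
  refine ⟨fun _ => exists_epi_stage_comp hc hF hFT u, fun ⟨j₀, h⟩ => ?_⟩
  haveI := h j₀ ⟨𝟙 _⟩
  exact epi_of_epi (c.ι.app j₀) u

variable [QuasiSeparatedSpace X]

/-- A finite type module of finite presentation over a quasi-compact open is a quotient of a
finitely presented one, isomorphically over that open. -/
theorem exists_fp_cover_isoOn (F : X.Modules) [Coh.IsQCoh F] (hFT : CohB1.IsFT F) {U : X.Opens}
    (hU : IsCompact (U : Set X)) (hFU : CohB1.IsFP (F.restrict U.ι)) :
    ∃ (G : X.Modules) (φ : G ⟶ F), CohB1.IsFP G ∧ Epi φ ∧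
      IsIso ((Scheme.Modules.restrictFunctor U.ι).map φ) := by
  obtain ⟨I, _, _, D₀, c, hc, hfp, rfl⟩ := exists_colimit_fp F ‹_›
  obtain ⟨a, ha⟩ := exists_epi_stage hc ‹_› hFT
  let π := c.ι.app a
  haveI : Epi π := ha
  have hPq := isFP_isQCoh (hfp a)
  have hK : Coh.IsQCoh (kernel π) := isQCoh_kernel hPq ‹Coh.IsQCoh c.pt› π
  let Rf := Scheme.Modules.restrictFunctor U.ι
  have hKft : CohB1.IsFT ((kernel π).restrict U.ι) := by
    refine isFT_of_isIso (PreservesKernel.iso Rf π).symm ?_
    exact M1.isFT_kernel (isFT_restrict (isFP_isFT (hfp a)) _) hFU (Rf.map π)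
  obtain ⟨k, hk, hk', hki⟩ := exists_ft_isoOn hK hU hKft
  let c' : k.P ⟶ D₀.obj a := k.i ≫ kernel.ι π
  let d : cokernel c' ⟶ c.pt := cokernel.desc c' π
    (by rw [Category.assoc, kernel.condition, comp_zero])
  refine ⟨cokernel c', d, ModLimH13.isFP_cokernel hk hk' (hfp a) c', ?_, ?_⟩
  · haveI : Epi (cokernel.π c' ≫ d) := by rw [cokernel.π_desc]; infer_instance
    exact epi_of_epi (cokernel.π c') d
  · have hzero : kernel.ι (Rf.map π) ≫ Rf.map (cokernel.π c') = 0 := by
      rw [show kernel.ι (Rf.map π) = (PreservesKernel.iso Rf π).inv ≫ Rf.map (kernel.ι π) from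
        (Iso.eq_inv_comp _).2 (by simp), Category.assoc]
      haveI := hki
      rw [← cancel_epi (PreservesKernel.iso Rf π).hom, Iso.hom_inv_id_assoc, comp_zero,
        ← cancel_epi (Rf.map k.i), ← Rf.map_comp, ← Rf.map_comp, ← Category.assoc,
        cokernel.condition, Functor.map_zero, comp_zero]
    refine ⟨Abelian.epiDesc (Rf.map π) _ hzero, ?_, ?_⟩
    · rw [← cancel_epi (Rf.map (cokernel.π c')), ← Rf.map_comp_assoc, cokernel.π_desc,
        Abelian.comp_epiDesc, Category.comp_id]
    · rw [← cancel_epi (Rf.map π), ← Category.assoc, Abelian.comp_epiDesc, ← Rf.map_comp,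
        cokernel.π_desc]
      exact (Category.comp_id _).symm

end Groth.Agent.FPExt12
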